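import Cfsg.Agent.H367.Rec.Defs
import Cfsg.Agent.H436.Names
import Cfsg.Agent.H171.ThreePrimes
import Mathlib

/-!
# Recognition by spectrum: the rows of the sporadic groups and the Tits group (helper264)
-/

set_option autoImplicit false

namespace Cfsg.Agent.H264.Rec

open Cfsg Cfsg.Agent.OrdDiv Cfsg.Agent.H436 Cfsg.Agent.H367.Rec

universe u

/-- `sg` of a prime -/
theorem sg_prime {p : ℕ} (hp : p.Prime) : sg p = p := by
  unfold sg
  rw [hp.primeFactors, Finset.sum_singleton, hp.factorization_self, pow_one]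

/-- the prime divisors of `|S|` are at most `n` -/
theorem le_of_cand {n : ℕ} {S : Type u} [Group S] [Finite S] (h : Cand n S) {p : ℕ} (hp : p.Prime)
    (hd : p ∣ Nat.card S) : p ≤ n := by
  haveI := Fact.mk hp
  obtain ⟨x, hx⟩ := exists_prime_orderOf_dvd_card' p hd
  have := h.sub x
  rwa [hx, sg_prime hp] at this

/-- the primes up to `139` -/
def pl : List ℕ := [2, 3, 5, 7, 11, 13, 17, 19, 23, 29, 31, 37, 41, 43, 47, 53, 59, 61, 67, 71, 73, 79, 83, 89, 97, 101,
  103, 107, 109, 113, 127, 131, 137, 139]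

theorem pl_prime {p : ℕ} (h : p ∈ pl) : p.Prime := by
  have h1 : pl.all isPrimeB = true := by decide +kernel
  rw [List.all_eq_true] at h1
  exact prime_of (h1 p h)

/-- the coclique `{p0} ∪ {p : n - p0 < p}` (only primes `> n / 2` besides `p0`) -/
def cocl (n p0 : ℕ) : List ℕ := pl.filter fun p =>
  Nat.ble p n && (Nat.beq p p0 || (Nat.blt n (p + p0) && Nat.blt n (2 * p)))

theorem mem_cocl {n p0 p : ℕ} : p ∈ cocl n p0 ↔ p ∈ pl ∧ p ≤ n ∧ (p = p0 ∨ (n < p + p0 ∧ n < 2 * p)) := by
  unfold cocl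
  rw [List.mem_filter, Bool.and_eq_true, Bool.or_eq_true, Bool.and_eq_true, Nat.ble_eq, Nat.beq_eq, Nat.blt_eq,
    Nat.blt_eq]

theorem cocl_coc (n p0 : ℕ) : Coc n (cocl n p0).toFinset where
  prime p hp := pl_prime (mem_cocl.1 (List.mem_toFinset.1 hp)).1
  le p hp := (mem_cocl.1 (List.mem_toFinset.1 hp)).2.1
  sum p hp q hq hpq := by
    obtain ⟨-, -, h1⟩ := mem_cocl.1 (List.mem_toFinset.1 hp)
    obtain ⟨-, -, h2⟩ := mem_cocl.1 (List.mem_toFinset.1 hq)
    omega

theorem pl_nodup : pl.Nodup := by unfold pl; decide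

theorem cocl_nodup (n p0 : ℕ) : (cocl n p0).Nodup := pl_nodup.filter _

/-- the coclique refutes `n` -/
def bad (N n p0 : ℕ) : Bool :=
  Nat.ble 3 (cocl n p0).length && Nat.ble 2 ((cocl n p0).filter fun p => !(Nat.beq (N % p) 0)).length

theorem of_bad {n : ℕ} {S : Type u} [Group S] [Finite S] (h : Cand n S) {p0 : ℕ}
    (hb : bad (Nat.card S) n p0 = true) : False := by
  unfold bad at hb
  rw [Bool.and_eq_true, Nat.ble_eq, Nat.ble_eq] at hb
  obtain ⟨h1, h2⟩ := hb
  have h3 : 3 ≤ (cocl n p0).toFinset.card := by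
    rw [List.toFinset_card_of_nodup (cocl_nodup n p0)]
    exact h1
  obtain ⟨r, s, hr, hs, hrs⟩ : ∃ r s, r ∈ (cocl n p0).filter (fun p => !(Nat.beq (Nat.card S % p) 0)) ∧
      s ∈ (cocl n p0).filter (fun p => !(Nat.beq (Nat.card S % p) 0)) ∧ r ≠ s := by
    have hnd := (cocl_nodup n p0).filter (fun p => !(Nat.beq (Nat.card S % p) 0))
    refine ⟨_, _, List.getElem_mem (n := 0) (by omega), List.getElem_mem (n := 1) (by omega), ?_⟩
    intro he
    exact absurd ((List.Nodup.getElem_inj_iff hnd).1 he) (by norm_num)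
  rw [List.mem_filter] at hr hs
  have key : ∀ t, (!(Nat.beq (Nat.card S % t) 0)) = true → ¬ t ∣ Nat.card S := by
    intro t ht hd
    rw [Nat.mod_eq_zero_of_dvd hd] at ht
    exact absurd ht (by decide)
  exact hrs (h.coc _ (cocl_coc n p0) h3 r (List.mem_toFinset.2 hr.1) s (List.mem_toFinset.2 hs.1)
    (key r hr.2) (key s hs.2))

/-- the sporadic names -/
def spl : List Grp := [Grp.tits, .m11, .m12, .m22, .m23, .m24, .j1, .j2, .j3, .j4, .co1, .co2, .co3, .mcl, .hs, .suz,
  .he, .ru, .on, .ly, .fi22, .fi23, .fi24, .hn, .th, .b, .m]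

/-- Boolean form of `Surv` for the sporadic names -/
def survB : Grp → ℕ → Bool
  | .m22, n => Nat.ble n 16
  | .hs, n => Nat.ble n 16
  | .mcl, n => Nat.ble n 16
  | .suz, n => Nat.ble n 18
  | .fi22, n => Nat.ble n 18
  | .fi23, n => Nat.ble 23 n && Nat.ble n 28
  | .fi24, n => Nat.ble 29 n && Nat.ble n 30
  | _, _ => false

theorem of_survB {g : Grp} {n : ℕ} (h : survB g n = true) : Surv n g := by
  cases g <;> simp_all [survB, Surv]

/-- the check for one `n` -/
def chk (g : Grp) (n : ℕ) : Bool :=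
  Nat.blt n 13 || survB g n || (pl.any fun r => Nat.beq (ordN g % r) 0 && Nat.blt n r) ||
    bad (ordN g) n (n + 1) || bad (ordN g) n 7 || bad (ordN g) n 11 || bad (ordN g) n 13

set_option maxRecDepth 100000 in
theorem chk_all : (spl.all fun g => (List.range 142).all fun n => chk g n) = true := by decide +kernel

set_option maxRecDepth 100000 in
theorem big_all : (spl.all fun g => Nat.beq ((557940830126698960967415390 ^ 50) % ordN g) 0) = true := by decide +kernel

/-- a prime dividing the number is at most `71` -/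
theorem le_71 {r : ℕ} (hr : r.Prime) (h : r ∣ 557940830126698960967415390 ^ 50) : r ≤ 71 := by
  have h1 := hr.dvd_of_dvd_pow h
  have h2 : 557940830126698960967415390 = [2, 3, 5, 7, 11, 13, 17, 19, 23, 29, 31, 37, 41, 43, 47, 53, 59, 61, 67,
    71].prod := by decide +kernel
  rw [h2, (Nat.Prime.prime hr).dvd_prod_iff] at h1
  obtain ⟨t, ht, h3⟩ := h1
  have h4 : [2, 3, 5, 7, 11, 13, 17, 19, 23, 29, 31, 37, 41, 43, 47, 53, 59, 61, 67, 71].all
    (fun t => Nat.blt 0 t && Nat.ble t 71) = true := by decide +kernel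
  rw [List.all_eq_true] at h4
  have h5 := h4 t ht
  rw [Bool.and_eq_true, Nat.blt_eq, Nat.ble_eq] at h5
  exact (Nat.le_of_dvd h5.1 h3).trans h5.2

theorem row_spor {S : Type u} [Group S] [Finite S] {n : ℕ} (hn : 13 ≤ n) {g : Grp}
    (hg : g ∈ [Grp.tits, .m11, .m12, .m22, .m23, .m24, .j1, .j2, .j3, .j4, .co1, .co2, .co3, .mcl, .hs, .suz, .he, .ru,
      .on, .ly, .fi22, .fi23, .fi24, .hn, .th, .b, .m]) (hS : IsNamed g S) (h : Cand n S) : Surv n g := by
  change g ∈ spl at hg
  rcases Nat.lt_or_ge n 142 with hn2 | hn2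
  · have h0 := chk_all
    rw [List.all_eq_true] at h0
    have h1 := h0 g hg
    rw [List.all_eq_true] at h1
    have h2 := h1 n (List.mem_range.2 hn2)
    unfold chk at h2
    rw [← hS.ord] at h2
    simp only [Bool.or_eq_true] at h2
    rcases h2 with (((((h2 | h2) | h2) | h2) | h2) | h2) | h2
    · rw [Nat.blt_eq] at h2
      omega
    · exact of_survB h2
    · rw [List.any_eq_true] at h2
      obtain ⟨r, hr, h3⟩ := h2
      rw [Bool.and_eq_true, Nat.beq_eq, Nat.blt_eq] at h3
      have := le_of_cand h (pl_prime hr) (Nat.dvd_of_mod_eq_zero h3.1)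
      omega
    · exact (of_bad h h2).elim
    · exact (of_bad h h2).elim
    · exact (of_bad h h2).elim
    · exact (of_bad h h2).elim
  · exfalso
    have h0 := big_all
    rw [List.all_eq_true] at h0
    have h1 := h0 g hg
    rw [Nat.beq_eq, ← hS.ord] at h1
    have hd := Nat.dvd_of_mod_eq_zero h1
    obtain ⟨p, q, r, hp, hq, hr, h3, h4, h5, h6⟩ := H171.ThreePrimes.exists_three_primes' n (by omega)
    have hC : Coc n {p, q, r} := by
      refine ⟨?_, ?_, ?_⟩
      · intro x hx
        simp only [Finset.mem_insert, Finset.mem_singleton] at hx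
        rcases hx with rfl | rfl | rfl <;> assumption
      · intro x hx
        simp only [Finset.mem_insert, Finset.mem_singleton] at hx
        omega
      · intro x hx y hy _
        simp only [Finset.mem_insert, Finset.mem_singleton] at hx hy
        omega
    have h7 : 3 ≤ ({p, q, r} : Finset ℕ).card := by
      rw [Finset.card_eq_three.2 ⟨p, q, r, by omega, by omega, by omega, rfl⟩]
    have h8 := h.coc _ hC h7 p (by simp) q (by simp) ?_ ?_
    · omega
    · intro h9
      have := le_71 hp (h9.trans hd)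
      omega
    · intro h9
      have := le_71 hq (h9.trans hd)
      omega

end Cfsg.Agent.H264.Rec
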